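import Groth.Agent.Lib.LefNFlat.Lef
import Groth.Agent.Lib.Curves.LES
import Groth.Agent.Lib.Curves.GlobalSections
import Groth.Agent.H90.ConnFun
import Groth.Agent.Lib.ClSub.Quot
import Groth.Agent.Lib.ExtShDivisor

/-!
# Formal bijectivity of homomorphisms out of negative twists
-/

set_option autoImplicit false
set_option linter.style.haveILetI false

noncomputable section

universe u

open CategoryTheory CategoryTheory.Limits AlgebraicGeometry Opposite TopologicalSpace

namespace Groth.Agent.Lib.LefAmple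

open Groth.Agent.Lib

variable {X : Scheme.{u}}

/-- Morphisms out of the structure module are bijective with global sections, compatibly. -/
theorem bijective_postcomp {M N : X.Modules} (g : M ⟶ N) (h : Function.Bijective (g.app ⊤)) :
    Function.Bijective fun φ : Coh.structureModule X ⟶ M => φ ≫ g := by
  refine ⟨fun φ ψ e => Modules.Free.unitHom_ext (h.1 ?_), fun ψ => ?_⟩
  · exact congr(($e).app ⊤ (1 : Γ(X, ⊤)))
  · obtain ⟨m, hm⟩ := h.2 (ψ.app ⊤ (1 : Γ(X, ⊤)))
    refine ⟨Modules.Free.unitHom M m, Modules.Free.unitHom_ext ?_⟩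
    show g.app ⊤ ((Modules.Free.unitHom M m).app ⊤ (1 : Γ(X, ⊤))) = _
    rw [Modules.Free.unitHom_app_one]
    exact hm

/-- Transport of `bijective_postcomp` by a fully faithful functor. -/
theorem bijective_postcomp_map (T : X.Modules ⥤ X.Modules) [T.Full] [T.Faithful] {P M N : X.Modules}
    (i : Coh.structureModule X ≅ T.obj P) (g : M ⟶ N)
    (h : Function.Bijective fun φ : Coh.structureModule X ⟶ T.obj M => φ ≫ T.map g) :
    Function.Bijective fun φ : P ⟶ M => φ ≫ g := by
  refine ⟨fun φ ψ e => T.map_injective ((cancel_epi i.hom).1 (h.1 ?_)), fun ψ => ?_⟩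
  · show (i.hom ≫ T.map φ) ≫ T.map g = (i.hom ≫ T.map ψ) ≫ T.map g
    rw [Category.assoc, Category.assoc, ← T.map_comp, ← T.map_comp]
    exact congrArg (fun z => i.hom ≫ T.map z) e
  · obtain ⟨χ, hχ⟩ := h.2 (i.hom ≫ T.map ψ)
    refine ⟨T.preimage (i.inv ≫ χ), T.map_injective ?_⟩
    show T.map (T.preimage (i.inv ≫ χ) ≫ g) = T.map ψ
    rw [T.map_comp, T.map_preimage, Category.assoc, show χ ≫ T.map g = i.hom ≫ T.map ψ from hχ,
      Iso.inv_hom_id_assoc]

variable (A : Type u) [CommRing A] [X.Over (Spec (CommRingCat.of A))]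

include A in
/-- A short exact sequence whose kernel has no cohomology in degrees `0`, `1`. -/
theorem bijective_app_top {S : ShortComplex X.Modules} (hS : S.ShortExact)
    (h : ∀ i : ℕ, i ≤ 1 → Subsingleton (Coh.HH X S.X₁ i)) : Function.Bijective (S.g.app ⊤) := by
  have hinj : Function.Injective (Curves.LES.mapK A S.g 0) := fun a b hab => by
    refine sub_eq_zero.1 ?_
    obtain ⟨z, hz⟩ := (Curves.LES.exactK₂ A hS 0 (a - b)).1 (by rw [map_sub, hab, sub_self])
    rw [← hz, @Subsingleton.elim _ (h 0 zero_le_one) z 0]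
    exact map_zero _
  have hsur : Function.Surjective (Curves.LES.mapK A S.g 0) := fun z =>
    (Curves.LES.exactK₃ A hS 0 1 rfl z).1 (@Subsingleton.elim _ (h 1 le_rfl) _ _)
  refine ⟨fun a b hab => ?_, (H90.ConnFun.mapK_zero_surjective_iff _).1 hsur⟩
  obtain ⟨a', rfl⟩ := (Curves.GlobalSections.h0Equiv S.X₂).surjective a
  obtain ⟨b', rfl⟩ := (Curves.GlobalSections.h0Equiv S.X₂).surjective b
  refine congrArg _ (hinj ((Curves.GlobalSections.h0Equiv S.X₃).injective ?_))
  exact (H90.ConnFun.h0Equiv_mapK _ a').trans (hab.trans (H90.ConnFun.h0Equiv_mapK _ b').symm)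

omit [X.Over (Spec (CommRingCat.of A))] in
/-- Formal bijectivity from bijectivity at large levels. -/
theorem homToFormalBijective_of_eventually (𝓘 : X.IdealSheafData) (P : X.Modules) (m₀ : ℕ)
    (h : ∀ m : ℕ, m₀ ≤ m →
      Function.Bijective fun φ : P ⟶ Coh.structureModule X => φ ≫ ClSub.toSubscheme (𝓘 ^ (m + 1))) :
    Lef.HomToFormalBijective 𝓘 P := by
  refine ⟨fun φ ψ e => (h m₀ le_rfl).1 (e m₀), fun y hy => ?_⟩
  obtain ⟨φ, hφ⟩ := (h m₀ le_rfl).2 (y m₀)
  have step : ∀ n (χ : P ⟶ Coh.structureModule X), χ ≫ ClSub.toSubscheme (𝓘 ^ (n + 1 + 1)) = y (n + 1) →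
      χ ≫ ClSub.toSubscheme (𝓘 ^ (n + 1)) = y n := fun n χ hχ => by
    rw [← hy n, ← hχ, Category.assoc]
    exact congrArg (χ ≫ ·) (LefNFlat.toSubscheme_quotMap (Lef.pow_succ_le 𝓘 n)).symm
  refine ⟨φ, fun n => ?_⟩
  rcases le_total m₀ n with hn | hn
  · induction n, hn using Nat.le_induction with
    | base => exact hφ
    | succ n hn ih =>
      obtain ⟨χ, hχ⟩ := (h (n + 1) (by omega)).2 (y (n + 1))
      have : χ = φ := (h n hn).1 ((step n χ hχ).trans ih.symm)
      exact this ▸ hχ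
  · exact Nat.decreasingInduction (motive := fun j _ => φ ≫ ClSub.toSubscheme (𝓘 ^ (j + 1)) = y j)
      (fun j _ hj => step j φ hj) hφ hn

omit [X.Over (Spec (CommRingCat.of A))] in
theorem homToFormalBijective_sigma (𝓘 : X.IdealSheafData) {κ : Type} (P : κ → X.Modules) [HasCoproduct P]
    (h : ∀ j, Lef.HomToFormalBijective 𝓘 (P j)) : Lef.HomToFormalBijective 𝓘 (∐ P) := by
  refine ⟨fun φ ψ e => Sigma.hom_ext _ _ fun j => (h j).1 _ _ fun n => ?_, fun y hy => ?_⟩
  · rw [Category.assoc, Category.assoc, e n]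
  · choose φ hφ using fun j => (h j).2 (fun n => Sigma.ι P j ≫ y n) fun n => by
      rw [Category.assoc, hy n]
    exact ⟨Sigma.desc φ, fun n => Sigma.hom_ext _ _ fun j => by rw [Sigma.ι_desc_assoc, hφ j n]⟩

omit [X.Over (Spec (CommRingCat.of A))] in
/-- Formal bijectivity passes to a quotient, injectivity being known on a cover of the kernel. -/
theorem homToFormalBijective_quotient (𝓘 : X.IdealSheafData) {P₁ P D : X.Modules} (p : P ⟶ D) [Epi p]
    (q : P₁ ⟶ kernel p) [Epi q] (h₁ : Lef.HomToFormalBijective 𝓘 P₁) (h : Lef.HomToFormalBijective 𝓘 P) :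
    Lef.HomToFormalBijective 𝓘 D := by
  refine ⟨fun φ ψ e => (cancel_epi p).1 (h.1 _ _ fun n => ?_), fun y hy => ?_⟩
  · rw [Category.assoc, Category.assoc, e n]
  · obtain ⟨χ, hχ⟩ := h.2 (fun n => p ≫ y n) fun n => by rw [Category.assoc, hy n]
    have h0 : kernel.ι p ≫ χ = 0 := (cancel_epi q).1 (h₁.1 _ _ fun n => by
      rw [comp_zero, zero_comp, Category.assoc, Category.assoc, hχ n, kernel.condition_assoc, zero_comp,
        comp_zero])
    obtain ⟨φ, hφ⟩ : ∃ φ : D ⟶ Coh.structureModule X, p ≫ φ = χ :=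
      ⟨Abelian.epiDesc p χ h0, Abelian.comp_epiDesc p χ h0⟩
    exact ⟨φ, fun n => (cancel_epi p).1 (by rw [← Category.assoc, hφ, hχ n])⟩

include A in
/-- Formal bijectivity for a power `M` of the ideal, through the twisting equivalence. -/
theorem homToFormalBijective_invertible (𝓘 : X.IdealSheafData) {P Q : X.Modules}
    (hPQ : ClSub.IsInverseOf Q P)
    (hv : ∃ m₀ : ℕ, ∀ m : ℕ, m₀ ≤ m → ∀ i : ℕ, i ≤ 1 →
      Subsingleton (Coh.HH X (CohB1.tensorMod (ClSub.idealMod (𝓘 ^ (m + 1))) Q) i)) :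
    Lef.HomToFormalBijective 𝓘 P := by
  obtain ⟨e⟩ := hPQ
  obtain ⟨m₀, hv⟩ := hv
  let T : X.Modules ⥤ X.Modules := (ModSite.tensorBi X.sheaf).flip.obj Q
  haveI : T.IsEquivalence := ExtShDivisor.isEquivalence_flip (I := Q) (L := P) ⟨TensorMod.Basic.comm P Q ≪≫ e⟩
  let i : Coh.structureModule X ≅ T.obj P := (TensorMod.Basic.comm P Q ≪≫ e).symm
  refine homToFormalBijective_of_eventually 𝓘 P m₀ fun m hm =>
    bijective_postcomp_map T i _ (bijective_postcomp _ ?_)
  haveI : PreservesFiniteLimits T := inferInstance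
  haveI : T.PreservesZeroMorphisms := Functor.preservesZeroMorphisms_of_isLeftAdjoint T
  have hS := (Lib.ClSub.Quot.idealSeq_shortExact (𝓘 ^ (m + 1))).map_of_exact T
  exact bijective_app_top A hS (hv m hm)

end Groth.Agent.Lib.LefAmple
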