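import Groth.Agent.Lib.DMod.PDFibre
import Groth.Agent.H20.PDDepth
import Groth.Agent.H26.FibreRegStalk
import Groth.Agent.H26.SmoothCodim
import Groth.Agent.Lib.ProjSpace.SmoothDimLE
import Groth.Agent.Lib.ProjSpace.Basic
import Groth.Agent.Lib.SmoothCurve.Stalk

/-!
# Projective dimension over projective space from the depth of the fibres
-/

set_option autoImplicit false
set_option linter.style.haveILetI false

noncomputable section

universe u

open CategoryTheory CategoryTheory.Limits AlgebraicGeometry IsLocalRing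

namespace Groth.Agent.Lib.LefAmple.FibrePD

open Groth.Agent.Lib Groth.Agent.Lib.DMod.FibreRed Groth.Agent.Lib.Regular

variable {X P S : Scheme.{u}}

/-- The fibre of a scheme smooth of relative dimension `N` has stalks of dimension at most `N`. -/
theorem dim_fibre_le (q : P ⟶ S) (N : ℕ) [SmoothOfRelativeDimension N q] (y : P) :
    ringKrullDim (P.presheaf.stalk y ⧸ (maximalIdeal (S.presheaf.stalk (q y))).map (q.stalkMap y).hom) ≤
      (N : WithBot ℕ∞) := by
  haveI : MorphismProperty.IsStableUnderBaseChange (@SmoothOfRelativeDimension.{u} N) :=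
    smoothOfRelativeDimension_isStableUnderBaseChange N
  haveI : SmoothOfRelativeDimension N (q.fiberToSpecResidueField (q y)) :=
    MorphismProperty.of_isPullback (P := @SmoothOfRelativeDimension N)
      (IsPullback.of_hasPullback q (S.fromSpecResidueField (q y))) ‹SmoothOfRelativeDimension N q›
  rw [← H46.FiberStalk.ringKrullDim_stalk_fiber q y, ringKrullDim_stalk_eq_coheight]
  exact (SmoothCurve.Stalk.coheight_le_topologicalKrullDim _).trans
    (ProjSpace.SmoothDimLE.topologicalKrullDim_le (S.residueField (q y)) (q.fiberToSpecResidueField (q y)) N)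

/-- The local ring of a closed subscheme, flat over the base with deep fibre, has small projective
dimension over the smooth ambient scheme; its fibre is no deeper than the ambient fibre. -/
theorem pdle_stalk [IsLocallyNoetherian X] [IsLocallyNoetherian P] [IsLocallyNoetherian S]
    (j : X ⟶ P) [IsClosedImmersion j] (q : P ⟶ S) (N : ℕ) [SmoothOfRelativeDimension N q]
    (p : X ⟶ S) (hp : j ≫ q = p) [Flat p] (x : X) :
    letI : Algebra (P.presheaf.stalk (j x)) (X.presheaf.stalk x) := (j.stalkMap x).hom.toAlgebra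
    LocCoh.depth (CInt.fiberStalk p x) (CInt.fiberStalk p x) ≤ (N : ℕ∞) ∧
    ∀ r : ℕ, (N : ℕ∞) ≤ LocCoh.depth (CInt.fiberStalk p x) (CInt.fiberStalk p x) + r →
    PD.PDle (P.presheaf.stalk (j x)) (X.presheaf.stalk x) r := by
  subst hp
  haveI : Smooth q := SmoothOfRelativeDimension.smooth N q
  let R := S.presheaf.stalk (q (j x))
  let C := P.presheaf.stalk (j x)
  let M := X.presheaf.stalk x
  letI : Algebra C M := (j.stalkMap x).hom.toAlgebra
  letI : Algebra R C := (q.stalkMap (j x)).hom.toAlgebra
  letI : Algebra R M := ((j.stalkMap x).hom.comp (q.stalkMap (j x)).hom).toAlgebra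
  haveI : IsScalarTower R C M := IsScalarTower.of_algebraMap_eq fun _ => rfl
  have hpq : ((j ≫ q).stalkMap x).hom = (j.stalkMap x).hom.comp (q.stalkMap (j x)).hom := by
    rw [Scheme.Hom.stalkMap_comp]; rfl
  haveI : IsLocalHom (algebraMap R C) := inferInstanceAs (IsLocalHom (q.stalkMap (j x)).hom)
  haveI : Module.Flat R C := RingHom.flat_algebraMap_iff.mp (Flat.stalkMap q (j x))
  haveI : Module.Flat R M := RingHom.flat_algebraMap_iff.mp (by
      have h0 := Flat.stalkMap (j ≫ q) x
      rw [hpq] at h0
      exact h0)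
  have hsj : Function.Surjective (algebraMap C M) := j.stalkMap_surjective x
  haveI : Module.Finite C M := Module.Finite.of_surjective (Algebra.linearMap C M) hsj
  haveI : IsRegularLocalRing (C ⧸ fa R C) := H26.SmoothCodim.isRegularLocalRing_quotient_fibre q (j x)
  haveI : IsLocalHom (algebraMap C M) := IsLocalHom.of_surjective _ hsj
  have hIle : fa R M ≤ maximalIdeal M := by
    haveI : IsLocalHom (algebraMap R M) := RingHom.isLocalHom_comp _ _
    exact fa_le
  have hsm : fa R C • (⊤ : Submodule C M) = (fa R M).restrictScalars C := by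
    rw [Ideal.smul_top_eq_map]
    congr 1
    rw [fa, Ideal.map_map]
    rfl
  haveI : Nontrivial (Bar R C M) := Submodule.Quotient.nontrivial_iff.2 fun e => by
    rw [hsm] at e
    exact (maximalIdeal.isMaximal M).ne_top (top_le_iff.1 (le_trans (fun z _ => by
      have : z ∈ (fa R M).restrictScalars C := e ▸ Submodule.mem_top
      exact this) hIle))
  have key : LocCoh.depth (C ⧸ fa R C) (Bar R C M) =
      LocCoh.depth (CInt.fiberStalk (j ≫ q) x) (CInt.fiberStalk (j ≫ q) x) := by
    rw [← Depth.Basic.depth_eq_of_surjective (R := C) (S := C ⧸ fa R C) Ideal.Quotient.mk_surjective]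
    obtain ⟨φ, hs, hk⟩ := H46.FiberStalk.exists_surjective_stalk (j ≫ q) ((j ≫ q) x) ((j ≫ q).asFiber x) x
      ((j ≫ q).fiberι_asFiber x)
    letI : Algebra M (CInt.fiberStalk (j ≫ q) x) := φ.toAlgebra
    rw [← Depth.Basic.depth_eq_of_surjective (R := M) (S := CInt.fiberStalk (j ≫ q) x) hs,
      Depth.Basic.depth_congr ((Algebra.linearMap M
        (CInt.fiberStalk (j ≫ q) x)).quotKerEquivOfSurjective hs).symm]
    have hkI : LinearMap.ker (Algebra.linearMap M (CInt.fiberStalk (j ≫ q) x)) = fa R M :=
      hk.trans (by rw [fa, hpq]; rfl)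
    rw [Depth.Basic.depth_congr (Submodule.quotEquivOfEq _ (fa R M) hkI),
      ← Depth.Basic.depth_eq_of_surjective (R := C) (S := M) hsj]
    exact Depth.Basic.depth_congr ((Submodule.quotEquivOfEq _ _ hsm).trans
      (Submodule.Quotient.restrictScalarsEquiv C (fa R M)))
  have hN : ((maximalIdeal (C ⧸ fa R C)).spanFinrank : ℕ∞) ≤ N := by
    have h1 := dim_fibre_le q N (j x)
    have h2 : ((maximalIdeal (C ⧸ fa R C)).spanFinrank : WithBot ℕ∞) = ringKrullDim (C ⧸ fa R C) :=
      IsRegularLocalRing.spanFinrank_maximalIdeal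
    exact_mod_cast h2.le.trans h1
  refine ⟨?_, fun r h => DMod.PDFibre.pdle_of_fibre (R := R) r M
    ((H20.PDDepth.pdle_iff_le_depth_add _ _).2 (hN.trans (h.trans (le_of_eq (congrArg (· + (r : ℕ∞)) key.symm)))))⟩
  have h1 := Depth.Assoc.depth_le_ringKrullDim (R := C ⧸ fa R C) (Bar R C M)
  rw [key] at h1
  exact_mod_cast h1.trans (dim_fibre_le q N (j x))

end Groth.Agent.Lib.LefAmple.FibrePD
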