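import Groth.Agent.Lib.LefAmple.FibrePD
import Groth.Agent.Lib.DerivedOX.PullbackStalk
import Groth.Agent.Lib.RefHull.LocFree
import Groth.Prelude.Def_ega3
import Groth.Prelude.Def_FlatMod2

/-!
# Projective dimension over projective space from the depth of the fibres of a flat module
-/

set_option autoImplicit false
set_option linter.style.haveILetI false

noncomputable section

universe u

open CategoryTheory CategoryTheory.Limits AlgebraicGeometry IsLocalRing TensorProduct

namespace Groth.Agent.Lib.LefAmple.FibrePD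

open Groth.Agent.Lib Groth.Agent.Lib.DMod.FibreRed Groth.Agent.Lib.Regular

variable {X P S : Scheme.{u}}

/-- The depth of the restriction of a module to a fibre, computed over the ambient local ring. -/
theorem depth_fiberMod (p : X ⟶ S) [IsLocallyNoetherian X] (F : X.Modules) (s : S) (a : p.fiber s)
    (x : X) (hx : p.fiberι s a = x) :
    LocCoh.depth ((p.fiber s).presheaf.stalk a) ((CohIII.fiberMod p F s).presheaf.stalk a) =
      LocCoh.depth (X.presheaf.stalk x) (F.presheaf.stalk x ⧸
        ((maximalIdeal (S.presheaf.stalk (p x))).map (p.stalkMap x).hom •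
          (⊤ : Submodule (X.presheaf.stalk x) (F.presheaf.stalk x)))) := by
  subst hx
  let i := p.fiberι s
  let A := X.presheaf.stalk (i a)
  let T := (p.fiber s).presheaf.stalk a
  letI : Algebra A T := (i.stalkMap a).hom.toAlgebra
  let eV : T ⊗[A] F.presheaf.stalk (i a) ≃ₗ[T] (CohIII.fiberMod p F s).presheaf.stalk a :=
    ((DerivedOX.PullbackStalk.pullbackStalkIso i a).app F).toLinearEquiv
  have hs : Function.Surjective (algebraMap A T) := i.stalkMap_surjective a
  have hk : LinearMap.ker (Algebra.linearMap A T) =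
      (maximalIdeal (S.presheaf.stalk (p (i a)))).map (p.stalkMap (i a)).hom :=
    H46.FiberStalk.ker_stalkMap_fiberι p s a
  rw [← Depth.Basic.depth_congr eV, ← Depth.Basic.depth_eq_of_surjective (R := A) (S := T) hs]
  exact Depth.Basic.depth_congr ((TensorProduct.congr
    (((Algebra.linearMap A T).quotKerEquivOfSurjective hs).symm.trans (Submodule.quotEquivOfEq _ _ hk))
    (LinearEquiv.refl A _)).trans (TensorProduct.quotTensorEquivQuotSMul _ _))

/-- The stalk of a coherent module on a closed subscheme, flat over the base with deep fibre, has small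
projective dimension over the smooth ambient scheme; its fibre is no deeper than the ambient one. -/
theorem pdle_stalk_mod [IsLocallyNoetherian X] [IsLocallyNoetherian P] [IsLocallyNoetherian S]
    (j : X ⟶ P) [IsClosedImmersion j] (q : P ⟶ S) (N : ℕ) [SmoothOfRelativeDimension N q]
    (p : X ⟶ S) (hp : j ≫ q = p) (F : X.Modules) (hF : Coh.IsCoh F) (x : X)
    (hflat : FlatMod.IsFlatOverAt p F x) [Nontrivial (F.presheaf.stalk x)] :
    letI : Module (P.presheaf.stalk (j x)) (F.presheaf.stalk x) := Module.compHom _ (j.stalkMap x).hom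
    LocCoh.depth (CInt.fiberStalk p x)
        ((CohIII.fiberMod p F (p.base x)).presheaf.stalk (p.asFiber x)) ≤ (N : ℕ∞) ∧
    ∀ r : ℕ, (N : ℕ∞) ≤ LocCoh.depth (CInt.fiberStalk p x)
        ((CohIII.fiberMod p F (p.base x)).presheaf.stalk (p.asFiber x)) + r →
    PD.PDle (P.presheaf.stalk (j x)) (F.presheaf.stalk x) r := by
  subst hp
  haveI : Smooth q := SmoothOfRelativeDimension.smooth N q
  let R := S.presheaf.stalk (q (j x))
  let C := P.presheaf.stalk (j x)
  let A := X.presheaf.stalk x
  let M := F.presheaf.stalk x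
  letI : Algebra C A := (j.stalkMap x).hom.toAlgebra
  letI : Module C M := Module.compHom M (j.stalkMap x).hom
  haveI : IsScalarTower C A M := IsScalarTower.of_algebraMap_smul fun _ _ => rfl
  letI : Algebra R C := (q.stalkMap (j x)).hom.toAlgebra
  letI : Module R M := Module.compHom M ((j.stalkMap x).hom.comp (q.stalkMap (j x)).hom)
  haveI : IsScalarTower R C M := IsScalarTower.of_algebraMap_smul fun _ _ => rfl
  have hpq : ((j ≫ q).stalkMap x).hom = (j.stalkMap x).hom.comp (q.stalkMap (j x)).hom := by
    rw [Scheme.Hom.stalkMap_comp]; rfl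
  haveI : IsLocalHom (algebraMap R C) := inferInstanceAs (IsLocalHom (q.stalkMap (j x)).hom)
  haveI : Module.Flat R C := RingHom.flat_algebraMap_iff.mp (Flat.stalkMap q (j x))
  haveI : Module.Flat R M := by
    have h0 : @Module.Flat R M _ _ (Module.compHom M ((j ≫ q).stalkMap x).hom) := hflat
    rw [hpq] at h0
    exact h0
  have hsj : Function.Surjective (algebraMap C A) := j.stalkMap_surjective x
  haveI : Module.Finite C A := Module.Finite.of_surjective (Algebra.linearMap C A) hsj
  haveI : Module.Finite A M := RefHull.LocFree.finite_stalk hF x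
  haveI : Module.Finite C M := Module.Finite.trans A M
  haveI : IsRegularLocalRing (C ⧸ fa R C) := H26.SmoothCodim.isRegularLocalRing_quotient_fibre q (j x)
  haveI : Nontrivial (Bar R C M) := Submodule.Quotient.nontrivial_iff.2 fun e =>
    not_subsingleton M (Submodule.subsingleton_iff C |>.1 (subsingleton_iff_bot_eq_top.1
      (Submodule.eq_bot_of_le_smul_of_le_jacobson_bot (fa R C) ⊤ Module.Finite.fg_top e.ge
        (fa_le.trans (IsLocalRing.maximalIdeal_le_jacobson ⊥))).symm))
  have key : LocCoh.depth (C ⧸ fa R C) (Bar R C M) = LocCoh.depth (CInt.fiberStalk (j ≫ q) x)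
      ((CohIII.fiberMod (j ≫ q) F ((j ≫ q).base x)).presheaf.stalk ((j ≫ q).asFiber x)) := by
    refine Eq.trans ?_ (depth_fiberMod (j ≫ q) F _ _ x ((j ≫ q).fiberι_asFiber x)).symm
    rw [← Depth.Basic.depth_eq_of_surjective (R := C) (S := C ⧸ fa R C) Ideal.Quotient.mk_surjective,
      ← Depth.Basic.depth_eq_of_surjective (R := C) (S := A) hsj]
    refine Depth.Basic.depth_congr ((Submodule.quotEquivOfEq _ _ ?_).trans
      (Submodule.Quotient.restrictScalarsEquiv C _))
    refine Eq.trans ?_ (congrArg (fun J : Ideal A => (J • (⊤ : Submodule A M)).restrictScalars C)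
      (show (fa R C).map (algebraMap C A) = _ by rw [fa, Ideal.map_map, hpq]; rfl))
    rw [Ideal.smul_restrictScalars, Submodule.restrictScalars_top]
  have hN : ((maximalIdeal (C ⧸ fa R C)).spanFinrank : ℕ∞) ≤ N := by
    have h1 := dim_fibre_le q N (j x)
    have h2 : ((maximalIdeal (C ⧸ fa R C)).spanFinrank : WithBot ℕ∞) = ringKrullDim (C ⧸ fa R C) :=
      IsRegularLocalRing.spanFinrank_maximalIdeal
    exact_mod_cast h2.le.trans h1
  refine ⟨?_, fun r h => DMod.PDFibre.pdle_of_fibre (R := R) r M
    ((H20.PDDepth.pdle_iff_le_depth_add _ _).2 (hN.trans (h.trans (le_of_eq (congrArg (· + (r : ℕ∞)) key.symm)))))⟩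
  have h1 := Depth.Assoc.depth_le_ringKrullDim (R := C ⧸ fa R C) (Bar R C M)
  rw [key] at h1
  exact_mod_cast h1.trans (dim_fibre_le q N (j x))

end Groth.Agent.Lib.LefAmple.FibrePD
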