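import Groth.Agent.Lib.LefNFlat.Lef
import Groth.Agent.Lib.ClSub.Quot
import Groth.Agent.Lib.Ideal.Comap
import Groth.Agent.H26.DepthExtend
import Groth.Agent.H95.LefConn

/-!
# Formal bijectivity on an open containing the closed subscheme
-/

set_option autoImplicit false
set_option linter.style.haveILetI false

noncomputable section

universe u

open CategoryTheory CategoryTheory.Limits AlgebraicGeometry Opposite TopologicalSpace

namespace Groth.Agent.Lib.LefAmple

open Groth.Agent.Lib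

variable {X : Scheme.{u}} (U : X.Opens)

/-- The unit of restriction is invertible at a module whose sections extend uniquely from `U`. -/
theorem isIso_unit_of_bijective (G : X.Modules)
    (hG : ∀ V : X.Opens, Function.Bijective (G.presheaf.map (homOfLE (inf_le_left : V ⊓ U ≤ V)).op)) :
    IsIso ((Scheme.Modules.restrictAdjunction U.ι).unit.app G) := by
  refine ClSub.Basis.isIso_of_bijective_affine _ fun V => ?_
  rw [Scheme.Modules.restrictAdjunction_unit_app_app]
  have gen : ∀ (O : X.Opens) (i : O ≤ V.1), O = V.1 ⊓ U →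
      Function.Bijective (G.presheaf.map (homOfLE i).op) := fun O i e => by subst e; exact hG V.1
  exact gen _ _ (by rw [Scheme.Hom.image_preimage_eq_opensRange_inf, Scheme.Opens.opensRange_ι, inf_comm])

theorem bijective_map_of_isIso_unit {C D : Type*} [Category C] [Category D] {F : C ⥤ D} {G : D ⥤ C}
    (adj : F ⊣ G) (A B : C) [IsIso (adj.unit.app B)] : Function.Bijective fun φ : A ⟶ B => F.map φ := by
  have h : (fun φ : A ⟶ B => F.map φ) = fun φ => (adj.homEquiv _ _).symm (φ ≫ adj.unit.app B) :=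
    funext fun φ => by simp [Adjunction.homEquiv_counit]
  rw [h]
  exact (adj.homEquiv _ _).symm.bijective.comp
    ⟨fun a b e => (cancel_mono _).1 e, fun b => ⟨b ≫ inv (adj.unit.app B), by simp⟩⟩

/-- Then homomorphisms to it are those of the restrictions. -/
theorem bijective_restrict_map (D G : X.Modules)
    [IsIso ((Scheme.Modules.restrictAdjunction U.ι).unit.app G)] :
    Function.Bijective fun φ : D ⟶ G => (Scheme.Modules.restrictFunctor U.ι).map φ :=
  bijective_map_of_isIso_unit (Scheme.Modules.restrictAdjunction U.ι) D G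

theorem bijective_map_quotMod (K : X.IdealSheafData) (hK : (K.support : Set X) ⊆ (U : Set X)) (V : X.Opens) :
    Function.Bijective ((ClSub.quotMod K).presheaf.map (homOfLE (inf_le_left : V ⊓ U ≤ V)).op) := by
  have e : K.subschemeι ⁻¹ᵁ (V ⊓ U) = K.subschemeι ⁻¹ᵁ V := by
    rw [Scheme.Hom.preimage_inf]
    exact inf_eq_left.2 fun z _ => hK (K.range_subschemeι ▸ Set.mem_range_self z)
  have gen : ∀ (O O' : K.subscheme.Opens) (i : O ⟶ O'), O = O' →
      Function.Bijective (K.subscheme.presheaf.map i.op) := fun O O' i e => by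
    haveI : IsIso i := ⟨eqToHom e.symm, Subsingleton.elim _ _, Subsingleton.elim _ _⟩
    exact ConcreteCategory.bijective_of_isIso _
  exact gen _ _ ((TopologicalSpace.Opens.map K.subschemeι.base).map (homOfLE inf_le_left)) e

theorem ker_toSubscheme_app {Y : Scheme.{u}} (K : Y.IdealSheafData) (V : Y.affineOpens) (s : Γ(Y, V.1)) :
    (ClSub.toSubscheme K).app V.1 s = 0 ↔ s ∈ K.ideal V := by
  rw [← K.ker_subschemeι_app V, RingHom.mem_ker]
  rfl

/-- The quotient by the restricted ideal is the restriction of the quotient. -/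
theorem exists_quot_restrict (K : X.IdealSheafData) :
    ∃ θ : (Scheme.Modules.restrictFunctor U.ι).obj (ClSub.quotMod K) ≅ ClSub.quotMod (K.comap U.ι),
      (Scheme.Modules.restrictFunctor U.ι).map (ClSub.toSubscheme K) ≫ θ.hom =
        (Scheme.Modules.restrictUnitIso U.ι).hom ≫ ClSub.toSubscheme (K.comap U.ι) := by
  let r := Scheme.Modules.restrictFunctor U.ι
  haveI := Lib.ClSub.Quot.epi_toSubscheme K
  haveI := Lib.ClSub.Quot.epi_toSubscheme (K.comap U.ι)
  let g₁ := r.map (ClSub.toSubscheme K)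
  let g₂ := (Scheme.Modules.restrictUnitIso U.ι).hom ≫ ClSub.toSubscheme (K.comap U.ι)
  haveI : Epi g₁ := inferInstance
  haveI : Epi g₂ := @epi_comp _ _ _ _ _ _ inferInstance _ inferInstance
  have key : ∀ (V : (U : Scheme.{u}).affineOpens) (s : Γ(X, U.ι ''ᵁ V.1)),
      g₁.app V.1 s = 0 ↔ g₂.app V.1 s = 0 := by
    intro V s
    let W : X.affineOpens := ⟨U.ι ''ᵁ V.1, V.2.image_of_isOpenImmersion U.ι⟩
    show (ClSub.toSubscheme K).app W.1 s = 0 ↔
      (ClSub.toSubscheme (K.comap U.ι)).app V.1 ((U.ι.appIso V.1).hom s) = 0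
    rw [ker_toSubscheme_app, ker_toSubscheme_app,
      Ideal.Comap.ideal_comap U.ι K W V (U.ι.preimage_image_eq V.1).ge]
    have hh : (U.ι.appLE W.1 V.1 (U.ι.preimage_image_eq V.1).ge).hom = (U.ι.appIso V.1).hom.hom := by
      rw [Scheme.Hom.appIso_hom']
    rw [hh]
    constructor
    · exact fun h => Ideal.mem_map_of_mem _ h
    · intro h
      obtain ⟨t, ht, e⟩ := (Ideal.mem_map_iff_of_surjective _
        (U.ι.appIso V.1).commRingCatIsoToRingEquiv.surjective).1 h
      rwa [← (U.ι.appIso V.1).commRingCatIsoToRingEquiv.injective e]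
  have hz : ∀ {Q Q' : (U : Scheme.{u}).Modules} (a : r.obj (Coh.structureModule X) ⟶ Q)
      (b : r.obj (Coh.structureModule X) ⟶ Q'),
      (∀ (V : (U : Scheme.{u}).affineOpens) (s : Γ(X, U.ι ''ᵁ V.1)), a.app V.1 s = 0 → b.app V.1 s = 0) →
      kernel.ι a ≫ b = 0 := fun a b hab => by
    refine Modules.StalkModule.hom_ext_stalkMapₗ fun x => LinearMap.ext fun z => ?_
    obtain ⟨O, hx, z, rfl⟩ := (kernel a).presheaf.exists_germ_eq z
    obtain ⟨V, hV, hxV, hle⟩ := exists_isAffineOpen_mem_and_subset hx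
    rw [← ClSub.Basis.germ_map (M := kernel a) hle hxV, Modules.StalkModule.stalkMapₗ_germ,
      Modules.StalkModule.stalkMapₗ_zero, LinearMap.zero_apply]
    have h1 : (kernel.ι a ≫ b).app V ((kernel a).presheaf.map (homOfLE hle).op z) = 0 :=
      hab ⟨V, hV⟩ _ (ClSub.Sections.app_kernel_ι_app a V _)
    erw [h1]
    exact map_zero _
  refine ⟨⟨Abelian.epiDesc g₁ g₂ (hz g₁ g₂ fun V s h => (key V s).1 h),
    Abelian.epiDesc g₂ g₁ (hz g₂ g₁ fun V s h => (key V s).2 h),
    (cancel_epi g₁).1 (by rw [Abelian.comp_epiDesc_assoc, Abelian.comp_epiDesc, Category.comp_id]),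
    (cancel_epi g₂).1 (by rw [Abelian.comp_epiDesc_assoc, Abelian.comp_epiDesc, Category.comp_id])⟩,
    Abelian.comp_epiDesc _ _ _⟩

/-- Transfer of formal bijectivity along a functor. -/
theorem homToFormalBijective_transfer {Y : Scheme.{u}} (r : X.Modules ⥤ Y.Modules)
    (u : r.obj (Coh.structureModule X) ≅ Coh.structureModule Y) (𝓘 : X.IdealSheafData) (𝓙 : Y.IdealSheafData)
    (θ : ∀ n : ℕ, r.obj (ClSub.quotMod (𝓘 ^ (n + 1))) ≅ ClSub.quotMod (𝓙 ^ (n + 1)))
    (hθ : ∀ n : ℕ, r.map (ClSub.toSubscheme (𝓘 ^ (n + 1))) ≫ (θ n).hom =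
      u.hom ≫ ClSub.toSubscheme (𝓙 ^ (n + 1)))
    [∀ n : ℕ, Epi (r.map (ClSub.toSubscheme (𝓘 ^ (n + 1))))]
    (D : X.Modules) (hbO : Function.Bijective fun φ : D ⟶ Coh.structureModule X => r.map φ)
    (hbQ : ∀ n : ℕ, Function.Bijective fun φ : D ⟶ ClSub.quotMod (𝓘 ^ (n + 1)) => r.map φ)
    (h : Lef.HomToFormalBijective 𝓘 D) : Lef.HomToFormalBijective 𝓙 (r.obj D) := by
  have hnat : ∀ n : ℕ, r.map (Lef.quotMap (Lef.pow_succ_le 𝓘 n)) ≫ (θ n).hom =
      (θ (n + 1)).hom ≫ Lef.quotMap (Lef.pow_succ_le 𝓙 n) := fun n => by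
    refine (cancel_epi (r.map (ClSub.toSubscheme (𝓘 ^ (n + 1 + 1))))).1 ?_
    refine ((r.map_comp_assoc _ _ _).symm.trans ((congrArg (fun z => r.map z ≫ (θ n).hom)
      (LefNFlat.toSubscheme_quotMap (Lef.pow_succ_le 𝓘 n))).trans ((hθ n).trans ?_)))
    refine ((Category.assoc _ _ _).symm.trans ((congrArg (· ≫ _) (hθ (n + 1))).trans
      ((Category.assoc _ _ _).trans (congrArg (u.hom ≫ ·)
        (LefNFlat.toSubscheme_quotMap (Lef.pow_succ_le 𝓙 n)))))).symm
  refine ⟨fun φ ψ e => ?_, fun y hy => ?_⟩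
  · obtain ⟨φ', hφ'⟩ := hbO.2 (φ ≫ u.inv)
    obtain ⟨ψ', hψ'⟩ := hbO.2 (ψ ≫ u.inv)
    have e2 : ∀ n, r.map φ' ≫ r.map (ClSub.toSubscheme (𝓘 ^ (n + 1))) ≫ (θ n).hom =
        r.map ψ' ≫ r.map (ClSub.toSubscheme (𝓘 ^ (n + 1))) ≫ (θ n).hom := fun n => by
      simp only [hθ n, show r.map φ' = φ ≫ u.inv from hφ', show r.map ψ' = ψ ≫ u.inv from hψ',
        Category.assoc, Iso.inv_hom_id_assoc]
      exact e n
    have : φ' = ψ' := h.1 _ _ fun n => (hbQ n).1 ((cancel_mono (θ n).hom).1 (by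
      simp only [Functor.map_comp, Category.assoc]
      exact e2 n))
    exact (cancel_mono u.inv).1 (hφ'.symm.trans (this ▸ hψ'))
  · choose y' hy' using fun n => (hbQ n).2 (y n ≫ (θ n).inv)
    obtain ⟨φ, hφ⟩ := h.2 y' fun n => (hbQ n).1 ((cancel_mono (θ n).hom).1 (by
      simp only [Functor.map_comp, Category.assoc, hnat n]
      rw [show r.map (y' n) = y n ≫ (θ n).inv from hy' n,
        reassoc_of% (show r.map (y' (n + 1)) = y (n + 1) ≫ (θ (n + 1)).inv from hy' (n + 1))]
      simp only [Category.assoc, Iso.inv_hom_id_assoc, Iso.inv_hom_id, Category.comp_id]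
      exact hy n))
    refine ⟨r.map φ ≫ u.hom, fun n => ?_⟩
    rw [Category.assoc, ← hθ n, ← Category.assoc, ← Functor.map_comp, hφ n,
      show r.map (y' n) = y n ≫ (θ n).inv from hy' n, Category.assoc, Iso.inv_hom_id, Category.comp_id]

/-- Formal bijectivity passes to an open containing the closed subscheme. -/
theorem homToFormalBijective_restrict (𝓘 : X.IdealSheafData) (D : X.Modules)
    (h : Lef.HomToFormalBijective 𝓘 D) (hU : (𝓘.support : Set X) ⊆ (U : Set X))
    (hO : ∀ V : X.Opens, Function.Bijective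
      (X.presheaf.map (homOfLE (inf_le_left : V ⊓ U ≤ V)).op)) :
    Lef.HomToFormalBijective (𝓘.comap U.ι) ((Scheme.Modules.restrictFunctor U.ι).obj D) := by
  haveI := isIso_unit_of_bijective U (Coh.structureModule X) hO
  haveI := fun n : ℕ => isIso_unit_of_bijective U (ClSub.quotMod (𝓘 ^ (n + 1)))
    (bijective_map_quotMod U _ (by rw [Scheme.IdealSheafData.support_pow_succ]; exact hU))
  have hθ : ∀ n : ℕ, ∃ θ : (Scheme.Modules.restrictFunctor U.ι).obj (ClSub.quotMod (𝓘 ^ (n + 1))) ≅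
        ClSub.quotMod ((𝓘.comap U.ι) ^ (n + 1)),
      (Scheme.Modules.restrictFunctor U.ι).map (ClSub.toSubscheme (𝓘 ^ (n + 1))) ≫ θ.hom =
        (Scheme.Modules.restrictUnitIso U.ι).hom ≫ ClSub.toSubscheme ((𝓘.comap U.ι) ^ (n + 1)) := fun n => by
    rw [← Ideal.Comap.comap_pow]
    exact exists_quot_restrict U _
  choose θ hθ using hθ
  haveI := fun n : ℕ => Lib.ClSub.Quot.epi_toSubscheme (𝓘 ^ (n + 1))
  exact homToFormalBijective_transfer (Scheme.Modules.restrictFunctor U.ι)
    (Scheme.Modules.restrictUnitIso U.ι) 𝓘 (𝓘.comap U.ι) θ hθ D (bijective_restrict_map U D _)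
    (fun n => bijective_restrict_map U D _) h

end Groth.Agent.Lib.LefAmple
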