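import Groth.Agent.Lib.LefAmple.Core
import Groth.Agent.Lib.LefAmple.Open
import Groth.Agent.S0824
import Groth.Agent.S8914
import Groth.Agent.Lib.DepthTwist.Zero
import Groth.Agent.Lib.QCoh.Pushforward
import Groth.Agent.Lib.Modules.ExtendFT
import Groth.Agent.Lib.CohBasics.Closure
import Groth.Agent.Lib.Ample.GG

/-!
# The Lefschetz condition for an ample divisor
-/

set_option autoImplicit false
set_option linter.style.haveILetI false

noncomputable section

universe u

open CategoryTheory CategoryTheory.Limits AlgebraicGeometry Opposite TopologicalSpace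

namespace Groth.Agent.Lib.LefAmple

open Groth.Agent.Lib Groth.Agent.Lib.TensorMod Groth.Agent.Lib.TensorMod.Basic

variable {X : Scheme.{u}}

theorem isInverseOf_pow {L M : X.Modules} (h : ClSub.IsInverseOf L M) (n : ℕ) :
    ClSub.IsInverseOf (CohB1.tensorPow L n) (CohB1.tensorPow M n) := by
  obtain ⟨e⟩ := h
  exact ⟨(Ample.Pow.powTensor L M n).symm ≪≫ Ample.Pow.powIso e n ≪≫ Ample.Pow.powUnit X n⟩

variable (A : Type u) [CommRing A] [X.Over (Spec (CommRingCat.of A))]

include A in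
/-- Lef for an ample effective Cartier divisor, from negative-twist vanishing in degrees `0` and `1`
and depth two off the divisor. -/
theorem lefCond_of_vanish [IsNoetherian X] (𝓘 : X.IdealSheafData) (L : X.Modules)
    (hL : ClSub.IsInverseOf L (ClSub.idealMod 𝓘)) (hamp : CohB1.IsAmple L)
    (hv : ∀ n : ℕ, ∃ m₀ : ℕ, ∀ m : ℕ, m₀ ≤ m → ∀ i : ℕ, i ≤ 1 → Subsingleton
      (Coh.HH X (CohB1.tensorMod (CohB1.tensorPow L n) (CohB1.tensorPow (ClSub.idealMod 𝓘) m)) i))
    (hdepth : ∀ Z : Set X, IsClosed Z → Disjoint Z (𝓘.support : Set X) → ∀ z ∈ Z,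
      (2 : ℕ∞) ≤ LocCoh.depth (X.presheaf.stalk z) (X.presheaf.stalk z)) :
    Lef.LefCond X 𝓘 := by
  have hLL := hL
  obtain ⟨eD⟩ := hLL
  have hMi : PicF.IsInvertible (ClSub.idealMod 𝓘) :=
    TensorInv.isInvertible_of_tensor_iso (comm _ L ≪≫ eD)
  have hD : BlowUp.IsEffCartierIdeal 𝓘 := (S8914.result 𝓘).1 hMi
  haveI : QuasiSeparatedSpace X := Ample.Pullback.quasiSeparatedSpace_of_isAmple hamp
  let M := ClSub.idealMod 𝓘
  have hpow : ∀ n : ℕ, Lef.HomToFormalBijective 𝓘 (CohB1.tensorPow M n) := fun n => by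
    refine homToFormalBijective_invertible A 𝓘 (isInverseOf_pow hL n) ?_
    obtain ⟨m₀, hm₀⟩ := hv n
    refine ⟨m₀, fun m hm i hi => ?_⟩
    obtain ⟨eP⟩ := DepthTwist.Zero.nonempty_tensorPow_idealMod hD m
    haveI := hm₀ (m + 1) (by omega) i hi
    exact (Curves.LES.isoK A (tensorIso eP.symm (Iso.refl (CohB1.tensorPow L n)) ≪≫ comm _ _) i).toEquiv.subsingleton
  have hcov : ∀ F : X.Modules, Coh.IsCoh F →
      ∃ (P : X.Modules) (p : P ⟶ F), Epi p ∧ Coh.IsCoh P ∧ Lef.HomToFormalBijective 𝓘 P := by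
    intro F hF
    obtain ⟨n, hn⟩ := Ample.GG.eventually_genAt_twist hamp F hF
    have hP := Invertible.isInvertible_tensorPow hamp.1 n
    haveI := hF.1
    haveI := hF.2
    haveI := (Ample.GG.isCoh_of_isInvertible hP).1
    haveI := (Ample.GG.isCoh_of_isInvertible hP).2
    have hc : Coh.IsCoh (CohB1.tensorMod F (CohB1.tensorPow L n)) :=
      ⟨TensorQCoh.isQCoh_tensorMod _ _, TensorQCoh.isFiniteType_tensorMod _ _⟩
    obtain ⟨k, q, hq⟩ := ResDescend36.Ample.exists_epi_freeMod _ hc (hn n le_rfl)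
    obtain ⟨i⟩ := isInverseOf_pow hL n
    obtain ⟨π, hπ, hE⟩ := S0824.exists_epi_sum (Invertible.isInvertible_tensorPow hMi n) i k q hq
    exact ⟨_, π, hπ, Perfect.Coherent.isCoh_of_isFinLocFree hE,
      homToFormalBijective_sigma 𝓘 _ fun _ => hpow n⟩
  have hcoh : ∀ F : X.Modules, Coh.IsCoh F → Lef.HomToFormalBijective 𝓘 F := by
    intro F hF
    obtain ⟨P, p, hp, hPc, hPb⟩ := hcov F hF
    obtain ⟨P₁, q, hq, -, hqb⟩ := hcov (kernel p) (CohBasics.Closure.isCoh_kernel p hPc hF.1)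
    exact homToFormalBijective_quotient 𝓘 p q hqb hPb
  intro U hU D hD'
  haveI : NoetherianSpace (U : Scheme.{u}) := U.ι.isOpenEmbedding.isInducing.noetherianSpace
  haveI : QuasiCompact U.ι := ⟨fun O _ _ => NoetherianSpace.isCompact _⟩
  have hDc := Perfect.Coherent.isCoh_of_isFinLocFree hD'
  haveI := hDc.1
  haveI : ((Scheme.Modules.pushforward U.ι).obj D).IsQuasicoherent :=
    QCoh.Pushforward.isQCoh_pushforward U.ι
  let i : D ⟶ ((Scheme.Modules.pushforward U.ι).obj D).restrict U.ι :=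
    inv ((Scheme.Modules.restrictAdjunction U.ι).counit.app D)
  obtain ⟨G, -, e, -, hGq, hGft, -⟩ :=
    Modules.ExtendFT.exists_extension_of_qcqs U (NoetherianSpace.isCompact _) D i hDc.2
  refine LefNFlat.homToFormalBijective_of_iso e.symm
    (homToFormalBijective_restrict U 𝓘 G (hcoh G ⟨hGq, hGft⟩) hU fun V => ?_)
  refine H26.DepthExtend.bijective_restrict U (fun x hx => ?_) V
  exact hdepth (U : Set X)ᶜ U.isOpen.isClosed_compl (disjoint_compl_left.mono_right hU) x hx

end Groth.Agent.Lib.LefAmple
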