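import Groth.Agent.Lib.ProjCoh.SerreDual
import Groth.Agent.Lib.ExtHH.SheafHom
import Groth.Agent.Lib.ExtShTensor
import Groth.Agent.Lib.Devissage.LFResIff
import Groth.Agent.Lib.SqZeroLift.ExtVanish
import Groth.Agent.Lib.Perfect.Top
import Groth.Agent.Lib.Perfect.Coherent
import Groth.Agent.H95.LefFEt.Bidual

/-!
# Negative twists on projective space over a ring, from projective dimension
-/

set_option autoImplicit false
set_option linter.style.haveILetI false

noncomputable section

universe u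

open CategoryTheory CategoryTheory.Limits AlgebraicGeometry CategoryTheory.Abelian

namespace Groth.Agent.Lib.LefAmple.ProjVanish

open Groth.Agent.Lib Groth.Agent.Lib.ProjCoh.Sections Groth.Agent.Lib.ProjCoh.Coherent
open Groth.Agent.Lib.TensorMod.Basic Groth.Agent.Lib.Devissage.LocFreeK0

variable {n : ℕ} {R : Type u} [CommRing R]

local notation "ℙ" => CohB1.ProjSpace n R

section

variable [HasExt.{u} (CohB1.ProjSpace n R).Modules]

theorem subsingleton_ext_TS_lt {i : ℕ} (hi : i < n) {a b : ℤ} (h : b < a) :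
    Subsingleton (Ext.{u} (TS n R a) (TS n R b) i) := by
  refine ProjCoh.SerreDual.subsingleton_ext_equiv (tensorBy (tw n R (-a))) _ _ i ?_
  refine ProjCoh.SerreDual.subsingleton_ext_iso
    (ProjCoh.SerreDual.tsTensor a (-a) ≪≫ eqToIso (congrArg (TS n R) (add_neg_cancel a)) ≪≫
      (ProjCoh.Twist.structureIso n R).symm)
    (ProjCoh.SerreDual.tsTensor b (-a)) i ?_
  have : Subsingleton (Coh.HH ℙ (TS n R (b + -a)) i) := by
    rcases eq_or_ne i 0 with rfl | h0
    · exact ProjCoh.SerreDual.subsingleton_HH_zero_neg hi (by omega)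
    · exact ProjCoh.Twist.subsingleton_HH_of_ne n R _ h0 hi.ne
  exact (ExtHH.Basic.extUnitEquiv R (TS n R (b + -a)) i).injective.subsingleton

theorem subsingleton_ext_locFree [IsNoetherianRing R] :
    ∀ i : ℕ, i < n → ∀ E : (ℙ).Modules, FlatMod.IsFinLocFree E →
      ∃ m₀ : ℕ, ∀ m : ℕ, m₀ ≤ m → Subsingleton (Ext.{u} E (TS n R (-(m : ℤ))) i) := by
  intro i
  induction i with
  | zero =>
    intro hi E hE
    obtain ⟨k, a, p, -, hp⟩ := ProjCoh.SerreDual.exists_epi_ge E (isCoh_of_locFree hE) 0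
    refine ⟨a + 1, fun m hm => ?_⟩
    haveI : Subsingleton (Ext.{u} (sumTS n R k (-(a : ℤ))) (TS n R (-(m : ℤ))) 0) :=
      ProjCoh.SerreDual.subsingleton_ext_sigma _ _ k 0 (subsingleton_ext_TS_lt hi (by omega))
    haveI : Subsingleton (sumTS n R k (-(a : ℤ)) ⟶ TS n R (-(m : ℤ))) :=
      Ext.addEquiv₀.symm.injective.subsingleton
    haveI : Subsingleton (E ⟶ TS n R (-(m : ℤ))) :=
      ⟨fun φ ψ => (cancel_epi p).1 (Subsingleton.elim _ _)⟩
    exact Ext.addEquiv₀.injective.subsingleton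
  | succ i ih =>
    intro hi E hE
    obtain ⟨k, a, p, -, hp⟩ := ProjCoh.SerreDual.exists_epi_ge E (isCoh_of_locFree hE) 0
    have hS : FlatMod.IsFinLocFree (sumTS n R k (-(a : ℤ))) := by
      obtain ⟨e⟩ := nonempty_freeMod_tensor (n := n) (R := R) k (-(a : ℤ))
      exact TensorMod.LocFree.of_iso e (TensorMod.LocFree.isFinLocFree_tensorMod
        (TensorMod.LocFree.of_rank (TensorMod.LocFree.isFinLocFree_freeMod _ k))
        (TensorMod.LocFree.of_rank (TensorMod.LocFree.of_isInvertible (isInvertible_tw _))))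
    obtain ⟨m₁, hm₁⟩ := ih (by omega) (kernel p) (Perfect.Top.isFinLocFree_kernel p hS hE)
    refine ⟨max m₁ (a + 1), fun m hm => ?_⟩
    have hs : (ShortComplex.mk (kernel.ι p) p (kernel.condition p)).ShortExact :=
      { exact := ShortComplex.exact_of_f_is_kernel _ (kernelIsKernel p), epi_g := hp }
    haveI := hm₁ m (le_trans (le_max_left _ _) hm)
    exact (ProjCoh.SerreDual.surjective_pre R hs (TS n R (-(m : ℤ))) (show 1 + i = i + 1 by omega)
      (ProjCoh.SerreDual.subsingleton_ext_sigma _ _ k _ (subsingleton_ext_TS_lt hi (by omega)))).subsingleton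

theorem subsingleton_HH_locFree [IsNoetherianRing R] (i : ℕ) (hi : i < n) (G : (ℙ).Modules)
    (hG : FlatMod.IsFinLocFree G) :
    ∃ m₀ : ℕ, ∀ m : ℕ, m₀ ≤ m → Subsingleton (Coh.HH ℙ (CohB1.tensorMod G (tw n R (-(m : ℤ)))) i) := by
  have hb := Modules.DualBasis.hasDBases_of_isFinLocFree hG
  let E := TensorMod.Dual.dual G
  have hE : FlatMod.IsFinLocFree E := H95.LefFEt.Bidual.isFinLocFree_dual hG
  have hEb := Modules.DualBasis.hasDBases_of_isFinLocFree hE
  haveI : DCoh.HasSheafHom E := SqZeroLift.ExtVanish.hasSheafHom' E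
  obtain ⟨m₀, hm⟩ := subsingleton_ext_locFree i hi E hE
  refine ⟨m₀, fun m h => ?_⟩
  haveI := hm m h
  haveI : Subsingleton (Coh.HH ℙ ((DCoh.sheafHom E).obj (TS n R (-(m : ℤ)))) i) :=
    (ExtHH.SheafHom.extLinearEquiv R hE (TS n R (-(m : ℤ))) i).symm.injective.subsingleton
  let e : (DCoh.sheafHom E).obj (TS n R (-(m : ℤ))) ≅ CohB1.tensorMod G (tw n R (-(m : ℤ))) :=
    (((DCoh.sheafHomAdj E).ofNatIsoLeft (ExtShTensor.tensorBiIso E)).rightAdjointUniq
      ((Modules.DualAdj.adjunction hEb.dual).ofNatIsoLeft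
        ((tensorFunctor _).mapIso (ExtShTensor.bidualIso hEb).symm))).app _ ≪≫
      tensorIso (ExtShTensor.bidualIso hb).symm (twIso _).symm
  exact (Curves.LES.isoK R e i).symm.injective.subsingleton

end

/-- A coherent module free at the closed points is locally free. -/
theorem locFree_of_closed {X : Scheme.{u}} [IsNoetherian X] {G : X.Modules} (hG : Coh.IsCoh G)
    (h : ∀ y : X, IsClosed ({y} : Set X) → PD G y 0) : FlatMod.IsFinLocFree G := by
  refine RefHull.LocFree.isFinLocFree hG fun x => ?_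
  by_contra hx
  have hc : IsClosed {y : X | Module.Free (X.presheaf.stalk y) (G.presheaf.stalk y)}ᶜ :=
    (RefHull.LocFree.isOpen_free hG).isClosed_compl
  obtain ⟨y, hy, hyc⟩ := hc.exists_closed_singleton ⟨x, hx⟩
  haveI : Module.Projective (X.presheaf.stalk y) (G.presheaf.stalk y) :=
    Regular.PD.pdle_zero_iff.1 (h y hyc)
  haveI := RefHull.LocFree.finite_stalk hG y
  exact hy Module.free_of_flat_of_isLocalRing

/-- Coherent modules of projective dimension `≤ r` at all closed points. -/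
theorem subsingleton_HH_of_pd [IsNoetherianRing R] [IsNoetherian (CohB1.ProjSpace n R)] :
    ∀ (r : ℕ) (G : (ℙ).Modules), Coh.IsCoh G → (∀ y : ℙ, IsClosed ({y} : Set ℙ) → PD G y r) → ∀ i : ℕ, i + r < n →
      ∃ m₀ : ℕ, ∀ m : ℕ, m₀ ≤ m → Subsingleton (Coh.HH ℙ (CohB1.tensorMod G (tw n R (-(m : ℤ)))) i) := by
  haveI : HasExt.{u} (CohB1.ProjSpace n R).Modules := hasExt_of_enoughInjectives _
  intro r
  induction r with
  | zero => exact fun G hG h i hi => subsingleton_HH_locFree i hi G (locFree_of_closed hG h)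
  | succ r ih =>
    intro G hG h i hi
    obtain ⟨k, a, S, -, hS, h1, h2, rfl⟩ := ProjCoh.SerreDual.exists_resolution G hG 0
    have hS₂ : FlatMod.IsFinLocFree S.X₂ := by
      rw [h2]
      obtain ⟨e⟩ := nonempty_freeMod_tensor (n := n) (R := R) k (-(a : ℤ))
      exact TensorMod.LocFree.of_iso e (TensorMod.LocFree.isFinLocFree_tensorMod
        (TensorMod.LocFree.of_rank (TensorMod.LocFree.isFinLocFree_freeMod _ k))
        (TensorMod.LocFree.of_rank (TensorMod.LocFree.of_isInvertible (isInvertible_tw _))))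
    obtain ⟨m₁, hm₁⟩ := ih S.X₁ h1 (fun y hy => ((hS.map_of_exact
      (Modules.StalkModule.stalkModFunctor (CohB1.ProjSpace n R) y)).hasProjectiveDimensionLT_X₃_iff r
        (projective_of_locFree hS₂ y)).1 (h y hy)) (i + 1) (by omega)
    refine ⟨max m₁ (a + 1), fun m hm => ?_⟩
    have hT := shortExact_tw hS (-(m : ℤ))
    haveI hs2 : Subsingleton (Coh.HH ℙ (S.map (tensorBy (tw n R (-(m : ℤ))))).X₂ i) := by
      change Subsingleton (Coh.HH _ (CohB1.tensorMod S.X₂ (tw n R (-(m : ℤ)))) i)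
      rw [h2]
      have := subsingleton_HH_sumTS (n := n) (R := R) k (a := -(a : ℤ) + -(m : ℤ)) (q := i) (by
        rcases eq_or_ne i 0 with rfl | h0
        · exact ProjCoh.SerreDual.subsingleton_HH_zero_neg (by omega) (by omega)
        · exact ProjCoh.Twist.subsingleton_HH_of_ne n R _ h0 (by omega))
      exact (Curves.LES.isoK R (sumTensor k (-(a : ℤ)) (-(m : ℤ))) i).injective.subsingleton
    haveI hs1 : Subsingleton (Coh.HH ℙ (S.map (tensorBy (tw n R (-(m : ℤ))))).X₁ (i + 1)) :=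
      hm₁ m (le_trans (le_max_left _ _) hm)
    refine subsingleton_of_forall_eq 0 fun x => ?_
    obtain ⟨y, hy⟩ := ((Curves.LES.exactK₃ R hT i (i + 1) rfl) x).1 (Subsingleton.elim _ _)
    rw [← hy, Subsingleton.elim y 0, map_zero]
    rfl

end Groth.Agent.Lib.LefAmple.ProjVanish
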