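import Groth.Agent.Lib.LefAmple.Rel
import Groth.Agent.Lib.LefAmple.FibrePDMod
import Groth.Agent.Lib.Modules.Support
import Groth.Agent.Lib.RefHull.Tensor

/-!
# Negative twists of a flat coherent module over a ring, from the depth of the fibres
-/

set_option autoImplicit false
set_option linter.style.haveILetI false

noncomputable section

universe u

open CategoryTheory CategoryTheory.Limits AlgebraicGeometry TopologicalSpace

namespace Groth.Agent.Lib.LefAmple.Rel

open Groth.Agent.Lib TensorMod.Basic ProjCoh.Coherent Ample.Pow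

variable (A : Type u) [CommRing A] {X : Scheme.{u}} [X.Over (Spec (CommRingCat.of A))]
  [IsProper (X ↘ Spec (CommRingCat.of A))]

/-- `H^i(X, L^{-m} ⊗ F) = 0` for `i ≤ n`, `m ≫ 0`, when the fibres of the `A`-flat coherent
`F` have depth `> n` at their closed points. -/
theorem exists_vanish_mod [IsNoetherianRing A] {L : X.Modules}
    (hL : CohB1.IsAmple L) {M : X.Modules} (hM : ClSub.IsInverseOf L M)
    {F : X.Modules} (hF : Coh.IsCoh F) (hflat : FlatMod.IsFlatOver (X ↘ Spec (CommRingCat.of A)) F) (n : ℕ)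
    (hdepth : ∀ x : X, IsClosed ({((X ↘ Spec (CommRingCat.of A))).asFiber x} :
        Set ↥(((X ↘ Spec (CommRingCat.of A))).fiber (((X ↘ Spec (CommRingCat.of A))).base x))) →
      (n : ℕ∞) < LocCoh.depth ↑(CInt.fiberStalk (X ↘ Spec (CommRingCat.of A)) x)
        ((CohIII.fiberMod (X ↘ Spec (CommRingCat.of A)) F (((X ↘ Spec (CommRingCat.of A))).base x)).presheaf.stalk
          (((X ↘ Spec (CommRingCat.of A))).asFiber x))) :
    ∃ m₀ : ℕ, ∀ m : ℕ, m₀ ≤ m → ∀ i : ℕ, i ≤ n →
      Subsingleton (Coh.HH X (CohB1.tensorMod (CohB1.tensorPow M m) F) i) := by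
  let p := X ↘ Spec (CommRingCat.of A)
  obtain ⟨d, N, j, hd, hj, hjo, ⟨eL⟩⟩ := exists_embedding A hL
  obtain ⟨eLM⟩ := hM
  have hMi : PicF.IsInvertible M :=
    TensorMod.TensorInv.isInvertible_of_tensor_iso ((comm M L) ≪≫ eLM)
  let ℙ := CohB1.ProjSpace N A
  haveI : IsNoetherianRing (CommRingCat.of A : CommRingCat.{u}) := ‹_›
  haveI : IsLocallyNoetherian ℙ := LocallyOfFiniteType.isLocallyNoetherian (CohB1.ProjSpace.toSpec N A)
  haveI : CompactSpace ℙ := QuasiCompact.compactSpace_of_compactSpace (CohB1.ProjSpace.toSpec N A)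
  haveI : IsNoetherian ℙ := ⟨⟩
  haveI : IsLocallyNoetherian X := LocallyOfFiniteType.isLocallyNoetherian p
  haveI : j.IsOver (Spec (CommRingCat.of A)) := ⟨hjo⟩
  let T : ℕ → X.Modules := fun s => CohB1.tensorMod (CohB1.tensorPow M s) F
  let G : ℕ → ℙ.Modules := fun s => (Coh.push j).obj (T s)
  have hinv : ∀ s, PicF.IsInvertible (CohB1.tensorPow M s) := TensorMod.Invertible.isInvertible_tensorPow hMi
  have hGc : ∀ s, Coh.IsCoh (G s) := fun s =>
    Cyc.Dev.SchemeEquiv.isCoh_push j
      (RefHull.Tensor.isCoh_tensorMod (Ample.GG.isCoh_of_isInvertible (hinv s)) hF)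
  -- projective dimension at the closed points of projective space
  have hpd : ∀ s, ∀ y : ℙ, IsClosed ({y} : Set ℙ) → Devissage.LocFreeK0.PD (G s) y (N - (n + 1)) := by
    intro s y hy
    by_cases hr : y ∈ Set.range j
    · obtain ⟨x, rfl⟩ := hr
      have hx : IsClosed ({x} : Set X) := by
        rw [show ({x} : Set X) = j ⁻¹' {j x} from
          Set.ext fun w => ⟨fun hw => congrArg j hw, fun hw => j.isEmbedding.injective hw⟩]
        exact hy.preimage j.continuous
      have hxf : IsClosed ({p.asFiber x} : Set ↥(p.fiber (p.base x))) := by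
        rw [show ({p.asFiber x} : Set ↥(p.fiber (p.base x))) = p.fiberι (p.base x) ⁻¹' {x} from
          Set.ext fun w => ⟨fun hw => (congrArg _ hw).trans (p.fiberι_asFiber x),
            fun hw => (p.fiberι (p.base x)).isEmbedding.injective (hw.trans (p.fiberι_asFiber x).symm)⟩]
        exact hx.preimage (p.fiberι (p.base x)).continuous
      letI : Module (ℙ.presheaf.stalk (j x)) ((T s).presheaf.stalk x) :=
        Module.compHom _ (j.stalkMap x).hom
      let φ : (G s).presheaf.stalk (j x) →ₗ[ℙ.presheaf.stalk (j x)] (T s).presheaf.stalk x :=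
        { toFun := DerivedOX.PullbackStalk.pushStalkMap j x (T s)
          map_add' := fun a b => map_add _ a b
          map_smul' := fun c a => DerivedOX.PullbackStalk.pushStalkMap_smul j x (T s) c a }
      let e := LinearEquiv.ofBijective φ (PushClosed.Unit.bijective_pushStalkMap j (T s) x)
      obtain ⟨e'⟩ := Snapper.Twist.exists_stalkEquiv_twist (hinv s) F x
      rcases subsingleton_or_nontrivial (F.presheaf.stalk x) with hS | hS
      · haveI : Subsingleton ((G s).presheaf.stalk (j x)) := (e.toEquiv.trans e'.toEquiv).subsingleton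
        have hz : IsZero ((Modules.StalkModule.stalkModFunctor ℙ (j x)).obj (G s)) :=
          ModuleCat.isZero_of_subsingleton (ModuleCat.of (ℙ.presheaf.stalk (j x)) ((G s).presheaf.stalk (j x)))
        haveI := hz.hasProjectiveDimensionLT_zero
        exact hasProjectiveDimensionLT_of_ge _ 0 _ (Nat.zero_le _)
      have hpdx := (FibrePD.pdle_stalk_mod j (CohB1.ProjSpace.toSpec N A) N p hjo F hF x (hflat x)).2 (N - (n + 1)) (by
        refine le_trans ?_ (add_le_add (ENat.natCast_add_one_le_iff.2 (hdepth x hxf)) le_rfl)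
        exact_mod_cast (show N ≤ n + 1 + (N - (n + 1)) by omega))
      letI : Algebra (ℙ.presheaf.stalk (j x)) (X.presheaf.stalk x) := (j.stalkMap x).hom.toAlgebra
      letI : Module (ℙ.presheaf.stalk (j x)) (F.presheaf.stalk x) := Module.compHom _ (j.stalkMap x).hom
      haveI : IsScalarTower (ℙ.presheaf.stalk (j x)) (X.presheaf.stalk x) ((T s).presheaf.stalk x) :=
        IsScalarTower.of_algebraMap_smul fun _ _ => rfl
      haveI : IsScalarTower (ℙ.presheaf.stalk (j x)) (X.presheaf.stalk x) (F.presheaf.stalk x) :=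
        IsScalarTower.of_algebraMap_smul fun _ _ => rfl
      exact Regular.PD.pdle_of_equiv (e.trans (e'.restrictScalars (ℙ.presheaf.stalk (j x)))).symm hpdx
    · haveI := PushClosed.Unit.subsingleton_stalk_push j (T s) hr
      haveI : Subsingleton ((G s).presheaf.stalk y) := ‹_›
      have hz : IsZero ((Modules.StalkModule.stalkModFunctor ℙ y).obj (G s)) :=
        ModuleCat.isZero_of_subsingleton (ModuleCat.of (ℙ.presheaf.stalk y) ((G s).presheaf.stalk y))
      haveI := hz.hasProjectiveDimensionLT_zero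
      exact hasProjectiveDimensionLT_of_ge _ 0 _ (Nat.zero_le _)
  rcases lt_or_ge n N with hnN | hnN
  swap
  · -- degenerate: nothing is deeper than the ambient fibres
    refine ⟨0, fun m _ i _ => ?_⟩
    have hF0 : ∀ x : X, Subsingleton (F.presheaf.stalk x) := by
      by_contra hX
      push Not at hX
      obtain ⟨x₀, hx₀⟩ := hX
      haveI : CompactSpace X := QuasiCompact.compactSpace_of_compactSpace p
      haveI := hF.2
      obtain ⟨x, hxS, hx⟩ := (Modules.Support.isClosed_support F).exists_closed_singleton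
        ⟨x₀, fun h => not_subsingleton _ h⟩
      have hxf : IsClosed ({p.asFiber x} : Set ↥(p.fiber (p.base x))) := by
        rw [show ({p.asFiber x} : Set ↥(p.fiber (p.base x))) = p.fiberι (p.base x) ⁻¹' {x} from
          Set.ext fun w => ⟨fun hw => (congrArg _ hw).trans (p.fiberι_asFiber x),
            fun hw => (p.fiberι (p.base x)).isEmbedding.injective (hw.trans (p.fiberι_asFiber x).symm)⟩]
        exact hx.preimage (p.fiberι (p.base x)).continuous
      haveI : Nontrivial (F.presheaf.stalk x) := not_subsingleton_iff_nontrivial.1 hxS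
      have h1 := (hdepth x hxf).trans_le
        (FibrePD.pdle_stalk_mod j (CohB1.ProjSpace.toSpec N A) N p hjo F hF x (hflat x)).1
      have : n < N := by exact_mod_cast h1
      omega
    haveI : ∀ x : X, Subsingleton ((T m).presheaf.stalk x) := fun x =>
      haveI := hF0 x
      ((Snapper.Twist.exists_stalkEquiv_twist (hinv m) F x).some).toEquiv.subsingleton
    have h : IsZero (Coh.toAb (T m)) := Functor.map_isZero (SheafOfModules.toSheaf X.ringCatSheaf)
      ((Modules.Stalk.isZero_iff_stalk_subsingleton).2 fun x => inferInstance)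
    refine subsingleton_of_forall_eq 0 fun x => ?_
    have h1 : x.comp (Abelian.Ext.mk₀ (𝟙 (Coh.toAb (T m)))) (add_zero i) = x :=
      Abelian.Ext.comp_mk₀_id x
    rw [h.eq_of_src (𝟙 (Coh.toAb (T m))) 0, Abelian.Ext.mk₀_zero, Abelian.Ext.comp_zero] at h1
    exact h1.symm
  have hv : ∀ s i, i ≤ n → ∃ m₁ : ℕ, ∀ m : ℕ, m₁ ≤ m →
      Subsingleton (Coh.HH ℙ (CohB1.tensorMod (G s) (tw N A (-(m : ℤ)))) i) := fun s i hi =>
    ProjVanish.subsingleton_HH_of_pd (N - (n + 1)) (G s) (hGc s) (hpd s) i (by omega)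
  choose f hf using hv
  let B := (Finset.range d).sup fun s => (Finset.univ : Finset (Fin (n + 1))).sup fun i => f s i (Nat.lt_succ_iff.1 i.2)
  refine ⟨d * B + d, fun m hm i hi => ?_⟩
  let q := m / d
  let s := m % d
  have hs : s < d := Nat.mod_lt m hd
  have hq : f s i hi ≤ q := by
    refine le_trans (le_trans (Finset.le_sup (f := fun a : Fin (n + 1) => f s a (Nat.lt_succ_iff.1 a.2))
      (Finset.mem_univ (⟨i, Nat.lt_succ_of_le hi⟩ : Fin (n + 1)))) (Finset.le_sup
        (f := fun s => (Finset.univ : Finset (Fin (n + 1))).sup fun i => f s i (Nat.lt_succ_iff.1 i.2))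
        (Finset.mem_range.2 hs))) ?_
    show B ≤ m / d
    rw [Nat.le_div_iff_mul_le hd, mul_comm]
    omega
  haveI := hf s i hi q hq
  have hunit : Nonempty (CohB1.tensorMod (CohB1.tensorPow M (d * q))
      (CohB1.tensorPow (CohB1.tensorPow L d) q) ≅ Coh.structureModule X) :=
    ⟨tensorIso (Iso.refl _) (powMul L d q) ≪≫ (powTensor M L (d * q)).symm ≪≫
      powIso ((comm M L) ≪≫ eLM) (d * q) ≪≫ powUnit X (d * q)⟩
  obtain ⟨u⟩ := hunit
  let eb : CohB1.tensorMod (T m) (CohB1.tensorPow (CohB1.tensorPow L d) q) ≅ T s :=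
    assoc _ _ _ ≪≫ tensorIso (Iso.refl _) (comm _ _) ≪≫ (assoc _ _ _).symm ≪≫
    tensorIso (tensorIso (powCongr M (Nat.mod_add_div m d).symm ≪≫ powAdd M s (d * q)) (Iso.refl _) ≪≫
      assoc _ _ _ ≪≫ tensorIso (Iso.refl _) u ≪≫ rightUnit _) (Iso.refl _)
  obtain ⟨jq⟩ := nonempty_tensorPow_iso (n := N) (R := A) q
  let eP : CohB1.tensorPow (CohB1.tensorPow L d) q ≅ (Scheme.Modules.pullback j).obj (tw N A (q : ℤ)) :=
    powIso eL q ≪≫ (pullbackPow j _ q).symm ≪≫ (Scheme.Modules.pullback j).mapIso jq.symm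
  let ep : G s ≅ CohB1.tensorMod (X := ℙ) ((Coh.push j).obj (T m)) (tw N A (q : ℤ)) :=
    (Coh.push j).mapIso (eb.symm ≪≫ tensorIso (Iso.refl _) eP ≪≫ comm _ _) ≪≫
    ((Modules.ProjFormula.projIso j (E := tw N A (q : ℤ))
      (Modules.DualBasis.hasDBases_of_isFinLocFree (TensorMod.LocFree.of_rank
        (TensorMod.LocFree.of_isInvertible (isInvertible_tw (q : ℤ)))))).app (T m)).symm ≪≫
      comm _ _
  let et : CohB1.tensorMod (G s) (tw N A (-(q : ℤ))) ≅ (Coh.push j).obj (T m) :=
    tensorIso ep (Iso.refl _) ≪≫ assoc _ _ _ ≪≫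
      tensorIso (Iso.refl _) (twCancel (q : ℤ) (-(q : ℤ)) (by omega)) ≪≫ rightUnit _
  haveI : (T m).IsQuasicoherent :=
    (RefHull.Tensor.isCoh_tensorMod (Ample.GG.isCoh_of_isInvertible (hinv m)) hF).1
  haveI : Subsingleton (Coh.HH ℙ ((Coh.push j).obj (T m)) i) :=
    (Curves.LES.isoK A et.symm i).injective.subsingleton
  exact (ZarCoh.Linear.affineLinearEquiv (A := A) j hjo (T m) i).symm.injective.subsingleton

end Groth.Agent.Lib.LefAmple.Rel
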