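import Groth.Agent.Lib.Snapper.Twist
import Groth.Agent.Lib.TensorMod.Colimit
import Groth.Agent.Lib.DerivedOX.TensorSheaf
import Groth.Agent.Lib.SurfInt.Mul
import Groth.Agent.Lib.SurfInt.JPow
import Groth.Agent.Lib.ClSub.Quot
import Groth.Prelude.Def_DCoh4

/-!
# The ideal sequences of the powers of a Cartier divisor, tensored with a module on which it is regular
-/

set_option autoImplicit false
set_option linter.style.haveILetI false

noncomputable section

universe u

open CategoryTheory CategoryTheory.Limits AlgebraicGeometry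
open scoped TensorProduct

namespace Groth.Agent.Lib.LefAmple.TensorSeq

open Groth.Agent.Lib Groth.Agent.Lib.Modules Groth.Agent.Lib.SurfInt.Stalk
open Groth.Agent.Lib.Ideal.Prime (stalkIdeal stalkIdeal_eq)

theorem injective_rTensor_iff {R P M : Type*} [CommRing R] [AddCommGroup P] [Module R P]
    [AddCommGroup M] [Module R M] (α : P →ₗ[R] R) (hα : Function.Injective α) (a : R)
    (ha : a ∈ nonZeroDivisors R) (hr : LinearMap.range α = Ideal.span {a}) :
    Function.Injective (α.rTensor M) ↔ IsSMulRegular M a := by
  obtain ⟨p₀, hp₀⟩ : a ∈ LinearMap.range α := hr ▸ Ideal.mem_span_singleton_self a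
  let e : R ≃ₗ[R] P := LinearEquiv.ofBijective (LinearMap.toSpanSingleton R P p₀)
    ⟨fun r r' h => mul_right_cancel₀_of_nzd r r' (by simpa [hp₀] using congrArg α h), fun p => by
      obtain ⟨r, hr'⟩ := Ideal.mem_span_singleton'.mp (hr ▸ LinearMap.mem_range_self α p)
      exact ⟨r, hα (by simp [hp₀, hr'])⟩⟩
  have key : ∀ v : M, TensorProduct.lid R M (α.rTensor M (e.rTensor M ((TensorProduct.lid R M).symm v))) =
      a • v := fun v => by simp [e, hp₀]
  constructor
  · intro h v w hvw
    exact (TensorProduct.lid R M).symm.injective ((e.rTensor M).injective (h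
      ((TensorProduct.lid R M).injective ((key v).trans (hvw.trans (key w).symm)))))
  · intro h t t' htt
    obtain ⟨v, rfl⟩ := ((TensorProduct.lid R M).symm.trans (e.rTensor M)).surjective t
    obtain ⟨w, rfl⟩ := ((TensorProduct.lid R M).symm.trans (e.rTensor M)).surjective t'
    exact congrArg _ (h ((key v).symm.trans ((congrArg (TensorProduct.lid R M) htt).trans (key w))))
where
  mul_right_cancel₀_of_nzd (r r' : R) (h : r * a = r' * a) : r = r' :=
    sub_eq_zero.1 (ha.2 (r - r') (by rw [sub_mul, h, sub_self]))

variable {X : Scheme.{u}}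

/-- `I ⊗ F → O ⊗ F` is injective at `x` iff the local equation of `I` is `F_x`-regular. -/
theorem injective_stalk_iff (F : X.Modules) (I : X.IdealSheafData) (x : X) (a : X.presheaf.stalk x)
    (ha : a ∈ nonZeroDivisors (X.presheaf.stalk x)) (hI : stalkIdeal I x = Ideal.span {a}) :
    Function.Injective (StalkModule.stalkMapₗ ((DCoh.tensorBi.map (_root_.ClSub.idealModι I)).app F) x) ↔
      IsSMulRegular (F.presheaf.stalk x) a := by
  have hn : ∀ z, DerivedOX.TensorSheaf.tensorStalk x (Coh.structureModule X) F
      (StalkModule.stalkMapₗ ((DCoh.tensorBi.map (_root_.ClSub.idealModι I)).app F) x z) =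
      (StalkModule.stalkMapₗ (_root_.ClSub.idealModι I) x).rTensor _
        (DerivedOX.TensorSheaf.tensorStalk x (_root_.ClSub.idealMod I) F z) := fun z => by
    have h := DerivedOX.TensorSheaf.tensorStalk_natural x (_root_.ClSub.idealModι I) (𝟙 F) z
    rw [CategoryTheory.Functor.map_id, Category.comp_id, StalkModule.stalkMapₗ_id] at h
    exact h
  rw [← injective_rTensor_iff (M := F.presheaf.stalk x) (idealStalk I x) (idealStalk_injective I x) a ha
    ((range_idealStalk I x).trans hI), idealStalk, LinearMap.rTensor_comp, LinearMap.coe_comp,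
    Function.Injective.of_comp_iff
      (show Function.Injective ((oStalk x).toLinearMap.rTensor (F.presheaf.stalk x)) from
        (LinearEquiv.rTensor _ (oStalk x)).injective)]
  constructor
  · intro h t t' htt
    obtain ⟨z, rfl⟩ := (DerivedOX.TensorSheaf.tensorStalk x (_root_.ClSub.idealMod I) F).surjective t
    obtain ⟨z', rfl⟩ := (DerivedOX.TensorSheaf.tensorStalk x (_root_.ClSub.idealMod I) F).surjective t'
    exact congrArg _ (h ((DerivedOX.TensorSheaf.tensorStalk x _ F).injective
      ((hn z).trans (htt.trans (hn z').symm))))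
  · intro h z z' hzz
    exact (DerivedOX.TensorSheaf.tensorStalk x (_root_.ClSub.idealMod I) F).injective
      (h ((hn z).symm.trans ((congrArg (DerivedOX.TensorSheaf.tensorStalk x _ F) hzz).trans (hn z'))))

/-- Regularity of an effective Cartier divisor on `F` passes to its powers. -/
theorem mono_tensor_pow {I : X.IdealSheafData} (hI : BlowUp.IsEffCartierIdeal I) (F : X.Modules)
    (h : Mono ((DCoh.tensorBi.map (_root_.ClSub.idealModι I)).app F)) (m : ℕ) :
    Mono ((DCoh.tensorBi.map (_root_.ClSub.idealModι (I ^ (m + 1)))).app F) := by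
  refine (StalkModule.mono_iff_stalkMapₗ_injective _).2 fun x => ?_
  obtain ⟨U, hxU, e, he, hIe⟩ := hI x
  have ha := Ideal.EffCartier.germ_mem_nonZeroDivisors U.2 he x hxU
  have hc : stalkIdeal I x = Ideal.span {(X.presheaf.germ U.1 x hxU).hom e} := by
    rw [stalkIdeal_eq I U hxU, hIe, _root_.Ideal.map_span, Set.image_singleton]
  have h1 := (injective_stalk_iff F I x _ ha hc).1 ((StalkModule.mono_iff_stalkMapₗ_injective _).1 h x)
  exact (injective_stalk_iff F (I ^ (m + 1)) x _ (pow_mem ha (m + 1))
    (by rw [SurfInt.JPow.stalkIdeal_pow, hc, Ideal.span_singleton_pow])).2 (h1.pow (m + 1))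

/-- The tensored ideal sequence. -/
theorem shortExact (I : X.IdealSheafData) (F : X.Modules)
    (h : Mono ((DCoh.tensorBi.map (_root_.ClSub.idealModι I)).app F)) :
    ((ClSub.Quot.idealSeq I).map (TensorMod.Basic.tensorBy F)).ShortExact := by
  haveI := preservesBinaryBiproducts_of_preservesBinaryCoproducts (TensorMod.Basic.tensorBy F)
  haveI : (TensorMod.Basic.tensorBy F).Additive := Functor.additive_of_preservesBinaryBiproducts _
  haveI := (ClSub.Quot.idealSeq_shortExact I).epi_g
  haveI : Mono ((ClSub.Quot.idealSeq I).map (TensorMod.Basic.tensorBy F)).f := h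
  haveI : Epi ((ClSub.Quot.idealSeq I).map (TensorMod.Basic.tensorBy F)).g :=
    inferInstanceAs (Epi ((TensorMod.Basic.tensorBy F).map _))
  have hex := ((Functor.preservesFiniteColimits_tfae (TensorMod.Basic.tensorBy F)).out 3 0).mp
    (inferInstance : PreservesFiniteColimits (TensorMod.Basic.tensorBy F))
  exact { exact := (hex _ (ClSub.Quot.idealSeq_shortExact I)).1 }

end Groth.Agent.Lib.LefAmple.TensorSeq
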